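import Mathlib
import Cfsg.Agent.SmallSimple.BTBasic
import Cfsg.Agent.SmallSimple.Simple168
import Cfsg.Agent.S0145

/-!
# The numeric criterion for products of conjugates (helper588, PQR-C1 of S3988)

`S` a finite group, `Z` a nonempty subset of `S`.

* `exists_mul_mem` : `‖χ(x)‖ ≤ R ‖χ(1)‖` for all irreducible `χ ≠ 1` and
  `R² (|C(y)| - 1) (|S| / |Z| - 1) < 1` ==> a conjugate of `x` times a conjugate of `y` lies in `Z`.
* `exists_mul_mem_cent` : the same if `|C(x)| (|C(y)| - 1) (|S| / |Z| - 1) < D²`, `D` a lower bound of the nontrivial degrees.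
* `norm_le_of_free` : `t` normalises `U` and `C_U(t) = 1` ==> `‖χ(t)‖ ≤ (‖χ(1)‖ + (|U| - 1) A) / |U|`,
  `A` a bound of `‖χ‖` on `U \ 1`.
* `ratio` : `x = t` normalising but not centralising `⟨u⟩`, `u` of prime order `l`;
  `ratio_cent` : the version with `A = √|C(u)|`.
* `card_prime` : `|{x | orderOf x = b}| |N(⟨z⟩)| = |S| (b - 1)` if `b` divides `|S|` exactly once, `card_primes` : a union
  of such sets.
-/

set_option autoImplicit false

open scoped ComplexConjugate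
open Cfsg

namespace Cfsg.Agent.H588.Ratio

open Cfsg.Agent.Characters.Core Cfsg.Agent.Characters.ClassMul

universe u

variable {S : Type u} [Group S] [Finite S]

/-! ### Column orthogonality -/

theorem sum_norm_sq [Fintype (IrrCharacter S)] (y : S) :
    ∑ χ : IrrCharacter S, ‖(χ : S → ℂ) y‖ ^ 2 = (Nat.card (Subgroup.centralizer ({y} : Set S)) : ℝ) := by
  classical
  have := Fintype.ofFinite S
  have h1 := S0145.sum_irr_mul_conj y y
  rw [if_pos (IsConj.refl y)] at h1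
  have h2 : ((∑ χ : IrrCharacter S, ‖(χ : S → ℂ) y‖ ^ 2 : ℝ) : ℂ) =
      ((Nat.card (Subgroup.centralizer ({y} : Set S)) : ℝ) : ℂ) := by
    rw [Complex.ofReal_natCast, ← h1, Complex.ofReal_sum]
    refine Finset.sum_congr rfl fun χ _ => ?_
    rw [Complex.mul_conj, Complex.normSq_eq_norm_sq]
  exact_mod_cast h2

/-- the trivial character -/
def one : IrrCharacter S := ⟨1, isIrr_one⟩

theorem sum_ne_one_norm_sq [Fintype (IrrCharacter S)] [DecidableEq (IrrCharacter S)] (y : S) :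
    ∑ χ ∈ Finset.univ.erase (one : IrrCharacter S), ‖(χ : S → ℂ) y‖ ^ 2 =
      (Nat.card (Subgroup.centralizer ({y} : Set S)) : ℝ) - 1 := by
  rw [← sum_norm_sq y, ← Finset.add_sum_erase _ _ (Finset.mem_univ (one : IrrCharacter S))]
  simp [one]

/-- `|χ(y)|² ≤ |C(y)|` -/
theorem norm_sq_le {χ : S → ℂ} (hχ : IsIrrCharacter S χ) (y : S) :
    ‖χ y‖ ^ 2 ≤ (Nat.card (Subgroup.centralizer ({y} : Set S)) : ℝ) := by
  have := finite_irr (G := S)
  have := Fintype.ofFinite (IrrCharacter S)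
  rw [← sum_norm_sq y]
  exact Finset.single_le_sum (f := fun χ : IrrCharacter S => ‖(χ : S → ℂ) y‖ ^ 2)
    (fun _ _ => by positivity) (Finset.mem_univ (⟨χ, hχ⟩ : IrrCharacter S))

/-- `|χ(y)|² ≤ |C(y)| - 1` if `χ ≠ 1` -/
theorem norm_sq_add_one_le {χ : S → ℂ} (hχ : IsIrrCharacter S χ) (h1 : χ ≠ 1) (y : S) :
    ‖χ y‖ ^ 2 + 1 ≤ (Nat.card (Subgroup.centralizer ({y} : Set S)) : ℝ) := by
  classical
  have := finite_irr (G := S)
  have := Fintype.ofFinite (IrrCharacter S)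
  have h2 := sum_ne_one_norm_sq (S := S) y
  have hmem : (⟨χ, hχ⟩ : IrrCharacter S) ∈ Finset.univ.erase (one : IrrCharacter S) :=
    Finset.mem_erase.2 ⟨fun h => h1 (congrArg Subtype.val h), Finset.mem_univ _⟩
  have h3 := Finset.single_le_sum (f := fun χ : IrrCharacter S => ‖(χ : S → ℂ) y‖ ^ 2)
    (fun _ _ => by positivity) hmem
  have h4 : ‖χ y‖ ^ 2 ≤ _ := h3
  rw [h2] at h4
  linarith

theorem norm_le_sqrt {χ : S → ℂ} (hχ : IsIrrCharacter S χ) (y : S) :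
    ‖χ y‖ ≤ √(Nat.card (Subgroup.centralizer ({y} : Set S)) : ℝ) :=
  Real.le_sqrt_of_sq_le (norm_sq_le hχ y)

theorem norm_le_sqrt' {χ : S → ℂ} (hχ : IsIrrCharacter S χ) (h1 : χ ≠ 1) (y : S) :
    ‖χ y‖ ≤ √((Nat.card (Subgroup.centralizer ({y} : Set S)) : ℝ) - 1) :=
  Real.le_sqrt_of_sq_le (by have := norm_sq_add_one_le hχ h1 y; linarith)

/-- `∑_χ |∑_{z ∈ Z} χ(z)|² ≤ |S| |Z|` -/
theorem sum_norm_sq_set [Fintype (IrrCharacter S)] (Z : Finset S) :
    ∑ χ : IrrCharacter S, ‖∑ z ∈ Z, (χ : S → ℂ) z‖ ^ 2 ≤ (Nat.card S : ℝ) * Z.card := by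
  classical
  have := Fintype.ofFinite S
  have h0 : ((∑ χ : IrrCharacter S, ‖∑ z ∈ Z, (χ : S → ℂ) z‖ ^ 2 : ℝ) : ℂ) =
      ((∑ w ∈ Z, (Z.filter fun z => IsConj z w).card * Nat.card (Subgroup.centralizer ({w} : Set S)) : ℕ) : ℂ) := by
    rw [Complex.ofReal_sum]
    have e1 : ∀ χ : IrrCharacter S, ((‖∑ z ∈ Z, (χ : S → ℂ) z‖ ^ 2 : ℝ) : ℂ) =
        ∑ w ∈ Z, ∑ z ∈ Z, (χ : S → ℂ) z * conj ((χ : S → ℂ) w) := by
      intro χ
      rw [← Complex.normSq_eq_norm_sq, ← Complex.mul_conj, map_sum, Finset.sum_mul_sum, Finset.sum_comm]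
    rw [Finset.sum_congr rfl fun χ _ => e1 χ, Finset.sum_comm]
    push_cast
    refine Finset.sum_congr rfl fun w _ => ?_
    rw [Finset.sum_comm, Finset.sum_congr rfl fun z _ => S0145.sum_irr_mul_conj z w, ← Finset.sum_filter,
      Finset.sum_const, nsmul_eq_mul]
  have h1 : ∑ χ : IrrCharacter S, ‖∑ z ∈ Z, (χ : S → ℂ) z‖ ^ 2 =
      ((∑ w ∈ Z, (Z.filter fun z => IsConj z w).card * Nat.card (Subgroup.centralizer ({w} : Set S)) : ℕ) : ℝ) := by
    exact_mod_cast h0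
  rw [h1]
  have h2 : ∑ w ∈ Z, (Z.filter fun z => IsConj z w).card * Nat.card (Subgroup.centralizer ({w} : Set S)) ≤
      ∑ w ∈ Z, Nat.card S := by
    refine Finset.sum_le_sum fun w _ => ?_
    rw [← (Subgroup.centralizer ({w} : Set S)).card_mul_index, mul_comm, ← card_filter_isConj w]
    refine Nat.mul_le_mul_left _ (Finset.card_le_card fun z hz => ?_)
    rw [Finset.mem_filter] at hz ⊢
    exact ⟨Finset.mem_univ _, hz.2.symm⟩
  rw [Finset.sum_const, smul_eq_mul, mul_comm] at h2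
  exact_mod_cast h2

/-! ### The criterion -/

/-- **the criterion**: `‖χ(x)‖ ≤ R ‖χ(1)‖` for all nontrivial irreducible characters -/
theorem exists_mul_mem {x y : S} {R : ℝ}
    (hR : ∀ χ : S → ℂ, IsIrrCharacter S χ → χ ≠ 1 → ‖χ x‖ ≤ R * ‖χ 1‖) {Z : Set S} (hne : Z.Nonempty)
    (hnum : R ^ 2 * ((Nat.card (Subgroup.centralizer ({y} : Set S)) : ℝ) - 1) *
      ((Nat.card S : ℝ) / Nat.card Z - 1) < 1) :
    ∃ g h : S, g * x * g⁻¹ * (h * y * h⁻¹) ∈ Z := by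
  classical
  by_contra hcon
  push Not at hcon
  have := Fintype.ofFinite S
  have := finite_irr (G := S)
  have := Fintype.ofFinite (IrrCharacter S)
  have := Fintype.ofFinite Z
  set Zf : Finset S := Z.toFinset with hZf
  have hcard : Nat.card Z = Zf.card := by rw [Nat.card_eq_fintype_card, Set.toFinset_card]
  have hpos : 0 < Zf.card := by
    rw [Finset.card_pos, hZf, Set.toFinset_nonempty]
    exact hne
  have hS : (Nat.card S : ℂ) ≠ 0 := by exact_mod_cast Nat.card_pos.ne'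
  have h1 : ∀ z ∈ Zf, ∑ χ : IrrCharacter S,
      (χ : S → ℂ) x * (χ : S → ℂ) y * conj ((χ : S → ℂ) z) / (χ : S → ℂ) 1 = 0 := by
    intro z hz
    have h2 := card_conj_mul_conj x y z
    have h3 : Nat.card {p : S × S // p.1 * x * p.1⁻¹ * (p.2 * y * p.2⁻¹) = z} = 0 := by
      rw [Nat.card_eq_zero]
      refine Or.inl ⟨fun p => hcon p.1.1 p.1.2 ?_⟩
      rw [p.2]
      exact Set.mem_toFinset.1 hz
    rw [h3, Nat.cast_zero] at h2
    exact (mul_eq_zero.1 h2.symm).resolve_left hS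
  let s : IrrCharacter S → ℂ := fun χ => ∑ z ∈ Zf, (χ : S → ℂ) z
  have h2 : ∑ χ : IrrCharacter S, (χ : S → ℂ) x * (χ : S → ℂ) y * conj (s χ) / (χ : S → ℂ) 1 = 0 := by
    have e : ∀ χ : IrrCharacter S, (χ : S → ℂ) x * (χ : S → ℂ) y * conj (s χ) / (χ : S → ℂ) 1 =
        ∑ z ∈ Zf, (χ : S → ℂ) x * (χ : S → ℂ) y * conj ((χ : S → ℂ) z) / (χ : S → ℂ) 1 := by
      intro χ
      simp only [s]
      rw [map_sum, Finset.mul_sum, Finset.sum_div]
    rw [Finset.sum_congr rfl fun χ _ => e χ, Finset.sum_comm, Finset.sum_eq_zero h1]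
  rw [← Finset.add_sum_erase _ _ (Finset.mem_univ (one : IrrCharacter S))] at h2
  have hone : ((one : IrrCharacter S) : S → ℂ) x * ((one : IrrCharacter S) : S → ℂ) y *
      conj (s one) / ((one : IrrCharacter S) : S → ℂ) 1 = (Zf.card : ℂ) := by
    simp [one, s]
  rw [hone] at h2
  have h3 : (Zf.card : ℝ) ≤ ∑ χ ∈ Finset.univ.erase (one : IrrCharacter S), R * (‖(χ : S → ℂ) y‖ * ‖s χ‖) := by
    have e : (Zf.card : ℂ) = -∑ χ ∈ Finset.univ.erase (one : IrrCharacter S),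
        (χ : S → ℂ) x * (χ : S → ℂ) y * conj (s χ) / (χ : S → ℂ) 1 := eq_neg_of_add_eq_zero_left h2
    have e2 : (Zf.card : ℝ) = ‖(Zf.card : ℂ)‖ := by rw [Complex.norm_natCast]
    rw [e2, e, norm_neg]
    refine (norm_sum_le _ _).trans (Finset.sum_le_sum fun χ hχ => ?_)
    have hχ1 : (χ : S → ℂ) ≠ 1 := fun h => (Finset.mem_erase.1 hχ).1 (Subtype.ext h)
    have h4 := hR χ χ.2 hχ1
    have h5 : 0 < ‖(χ : S → ℂ) 1‖ := norm_pos_iff.2 (isIrr_apply_one_ne_zero χ.2)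
    rw [norm_div, norm_mul, norm_mul, Complex.norm_conj, div_le_iff₀ h5]
    have h6 : 0 ≤ ‖(χ : S → ℂ) y‖ * ‖s χ‖ := by positivity
    have h7 := mul_le_mul_of_nonneg_right h4 h6
    calc ‖(χ : S → ℂ) x‖ * ‖(χ : S → ℂ) y‖ * ‖s χ‖ = ‖(χ : S → ℂ) x‖ * (‖(χ : S → ℂ) y‖ * ‖s χ‖) := by ring
      _ ≤ R * ‖(χ : S → ℂ) 1‖ * (‖(χ : S → ℂ) y‖ * ‖s χ‖) := h7
      _ = R * (‖(χ : S → ℂ) y‖ * ‖s χ‖) * ‖(χ : S → ℂ) 1‖ := by ring
  rw [← Finset.mul_sum] at h3
  have h4 := Finset.sum_mul_sq_le_sq_mul_sq (Finset.univ.erase (one : IrrCharacter S))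
    (fun χ => ‖(χ : S → ℂ) y‖) (fun χ => ‖s χ‖)
  rw [sum_ne_one_norm_sq] at h4
  have h5 : ∑ χ ∈ Finset.univ.erase (one : IrrCharacter S), ‖s χ‖ ^ 2 ≤
      (Nat.card S : ℝ) * Zf.card - (Zf.card : ℝ) ^ 2 := by
    have e := sum_norm_sq_set (S := S) Zf
    rw [← Finset.add_sum_erase _ _ (Finset.mem_univ (one : IrrCharacter S))] at e
    have e2 : ‖∑ z ∈ Zf, ((one : IrrCharacter S) : S → ℂ) z‖ ^ 2 = (Zf.card : ℝ) ^ 2 := by
      simp [one]
    rw [e2] at e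
    have e3 : ∑ χ ∈ Finset.univ.erase (one : IrrCharacter S), ‖s χ‖ ^ 2 =
        ∑ χ ∈ Finset.univ.erase (one : IrrCharacter S), ‖∑ z ∈ Zf, (χ : S → ℂ) z‖ ^ 2 := rfl
    rw [e3]
    linarith
  set σ : ℝ := ∑ χ ∈ Finset.univ.erase (one : IrrCharacter S), ‖(χ : S → ℂ) y‖ * ‖s χ‖ with hσ
  have hc1 : (1 : ℝ) ≤ Nat.card (Subgroup.centralizer ({y} : Set S)) := by exact_mod_cast Nat.card_pos
  set c : ℝ := (Nat.card (Subgroup.centralizer ({y} : Set S)) : ℝ) - 1 with hc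
  have hc0 : 0 ≤ c := by rw [hc]; linarith
  have hz0 : (0 : ℝ) < Zf.card := by exact_mod_cast hpos
  have h6 : (Zf.card : ℝ) ^ 2 ≤ R ^ 2 * (c * ((Nat.card S : ℝ) * Zf.card - (Zf.card : ℝ) ^ 2)) := by
    calc (Zf.card : ℝ) ^ 2 ≤ (R * σ) ^ 2 := by
          exact pow_le_pow_left₀ hz0.le h3 2
      _ = R ^ 2 * σ ^ 2 := by ring
      _ ≤ R ^ 2 * (c * ∑ χ ∈ Finset.univ.erase (one : IrrCharacter S), ‖s χ‖ ^ 2) :=
          mul_le_mul_of_nonneg_left h4 (by positivity)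
      _ ≤ _ := mul_le_mul_of_nonneg_left (mul_le_mul_of_nonneg_left h5 hc0) (by positivity)
  rw [hcard] at hnum
  have h7 : R ^ 2 * (c * ((Nat.card S : ℝ) * Zf.card - (Zf.card : ℝ) ^ 2)) =
      (R ^ 2 * c * ((Nat.card S : ℝ) / Zf.card - 1)) * (Zf.card : ℝ) ^ 2 := by
    field_simp
  rw [h7] at h6
  have h8 : (R ^ 2 * c * ((Nat.card S : ℝ) / Zf.card - 1)) * (Zf.card : ℝ) ^ 2 < 1 * (Zf.card : ℝ) ^ 2 :=
    mul_lt_mul_of_pos_right hnum (by positivity)
  linarith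

/-- the direct version: `|C(x)| (|C(y)| - 1) (|S| / |Z| - 1) < D²` -/
theorem exists_mul_mem_cent {x y : S} {D : ℝ} (hD0 : 0 < D)
    (hD : ∀ χ : S → ℂ, IsIrrCharacter S χ → χ ≠ 1 → D ≤ ‖χ 1‖) {Z : Set S} (hne : Z.Nonempty)
    (hnum : (Nat.card (Subgroup.centralizer ({x} : Set S)) : ℝ) *
      ((Nat.card (Subgroup.centralizer ({y} : Set S)) : ℝ) - 1) * ((Nat.card S : ℝ) / Nat.card Z - 1) < D ^ 2) :
    ∃ g h : S, g * x * g⁻¹ * (h * y * h⁻¹) ∈ Z := by
  set c : ℝ := (Nat.card (Subgroup.centralizer ({x} : Set S)) : ℝ) with hc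
  have hc0 : 0 ≤ c := by rw [hc]; positivity
  refine exists_mul_mem (R := √c / D) (fun χ hχ h1 => ?_) hne ?_
  · have h2 := norm_le_sqrt hχ x
    have h3 := hD χ hχ h1
    have h4 : √c / D * D ≤ √c / D * ‖χ 1‖ := mul_le_mul_of_nonneg_left h3 (by positivity)
    rw [div_mul_cancel₀ _ hD0.ne'] at h4
    exact h2.trans h4
  · rw [div_pow, Real.sq_sqrt hc0, mul_assoc, div_mul_eq_mul_div, ← mul_assoc, div_lt_one (by positivity)]
    exact hnum

/-! ### Elements normalising a subgroup -/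

/-- `t` normalises `U`, `C_U(t) = 1`: all `t x`, `x ∈ U`, are conjugate to `t` -/
theorem isConj_of_free {t : S} {U : Subgroup S} (hn : ∀ x ∈ U, t * x * t⁻¹ ∈ U)
    (hf : ∀ x ∈ U, t * x = x * t → x = 1) : ∀ x ∈ U, IsConj t (t * x) := by
  have hn' : ∀ x ∈ U, t⁻¹ * x * t ∈ U := by
    intro x hx
    have key : ∀ n : ℕ, t ^ n * x * (t ^ n)⁻¹ ∈ U := by
      intro n
      induction n with
      | zero => simpa using hx
      | succ n ih =>
        have := hn _ ih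
        have e : t ^ (n + 1) * x * (t ^ (n + 1))⁻¹ = t * (t ^ n * x * (t ^ n)⁻¹) * t⁻¹ := by
          rw [pow_succ' t n]; group
        rwa [e]
    have h1 := key (Nat.card S - 1)
    have h2 : t ^ (Nat.card S - 1) = t⁻¹ := by
      apply eq_inv_of_mul_eq_one_left
      rw [← pow_succ, Nat.sub_add_cancel Nat.card_pos, pow_card_eq_one']
    rwa [h2, inv_inv] at h1
  let φ : U → U := fun c => ⟨t⁻¹ * c * t * (c : S)⁻¹, U.mul_mem (hn' c c.2) (U.inv_mem c.2)⟩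
  have hinj : Function.Injective φ := by
    intro c d hcd
    have h1 : t⁻¹ * c * t * (c : S)⁻¹ = t⁻¹ * d * t * (d : S)⁻¹ := congrArg Subtype.val hcd
    have h2 : t * ((d : S)⁻¹ * c) = (d : S)⁻¹ * c * t := by
      have h3 : (d : S)⁻¹ * c = t⁻¹ * ((d : S)⁻¹ * c) * t := by
        have h4 : (t⁻¹ * d * t * (d : S)⁻¹)⁻¹ * (t⁻¹ * c * t * (c : S)⁻¹) = 1 := by rw [h1, inv_mul_cancel]
        have h5 : (t⁻¹ * d * t * (d : S)⁻¹)⁻¹ * (t⁻¹ * c * t * (c : S)⁻¹) =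
            d * (t⁻¹ * ((d : S)⁻¹ * c) * t) * (c : S)⁻¹ := by group
        rw [h5] at h4
        have h6 : (d : S) * (t⁻¹ * ((d : S)⁻¹ * c) * t) = c := mul_inv_eq_one.1 h4
        exact (eq_inv_mul_of_mul_eq h6).symm
      conv_lhs => rw [h3]
      group
    have h3 := hf _ (U.mul_mem (U.inv_mem d.2) c.2) h2
    exact Subtype.ext (inv_mul_eq_one.1 h3).symm
  intro x hx
  obtain ⟨c, hc⟩ := (Finite.injective_iff_surjective.1 hinj) ⟨x, hx⟩
  have hc' : t⁻¹ * c * t * (c : S)⁻¹ = x := congrArg Subtype.val hc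
  refine isConj_iff.2 ⟨c, ?_⟩
  rw [← hc']; group

/-- the bound of `|χ(t)|` if `t` normalises `U` with `C_U(t) = 1` -/
theorem norm_le_of_free {t : S} {U : Subgroup S} (hn : ∀ x ∈ U, t * x * t⁻¹ ∈ U)
    (hf : ∀ x ∈ U, t * x = x * t → x = 1) {χ : S → ℂ} (hχ : IsIrrCharacter S χ) {A : ℝ}
    (hA : ∀ x ∈ U, x ≠ 1 → ‖χ x‖ ≤ A) :
    ‖χ t‖ ≤ (‖χ 1‖ + ((Nat.card U : ℝ) - 1) * A) / Nat.card U := by
  classical
  have := Fintype.ofFinite U
  have h1 := SmallSimple.BTBasic.norm_character_le_fixd U (isIrr_isCharacter hχ) t hn (isConj_of_free hn hf)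
  refine h1.trans ?_
  rw [SmallSimple.BTBasic.fixd_def, norm_mul, norm_inv, Complex.norm_natCast, inv_mul_eq_div]
  refine div_le_div_of_nonneg_right ?_ (by positivity)
  refine (norm_sum_le _ _).trans ?_
  rw [← Finset.add_sum_erase _ _ (Finset.mem_univ (1 : U))]
  refine add_le_add (by simp) ?_
  refine (Finset.sum_le_card_nsmul _ _ A fun x hx => ?_).trans ?_
  · exact hA x x.2 fun h => (Finset.mem_erase.1 hx).1 (Subtype.ext h)
  · rw [Finset.card_erase_of_mem (Finset.mem_univ _), Finset.card_univ, nsmul_eq_mul, ← Nat.card_eq_fintype_card,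
      Nat.cast_sub Nat.card_pos, Nat.cast_one]

/-- **the criterion with a subgroup `U`** normalised by `t`, `C_U(t) = 1` -/
theorem ratio_sub {t y : S} {U : Subgroup S} (hn : ∀ x ∈ U, t * x * t⁻¹ ∈ U)
    (hf : ∀ x ∈ U, t * x = x * t → x = 1) {Z : Set S} (hne : Z.Nonempty) {D A : ℝ} (hD0 : 0 < D) (hA0 : 0 ≤ A)
    (hD : ∀ χ : S → ℂ, IsIrrCharacter S χ → χ ≠ 1 → D ≤ ‖χ 1‖)
    (hA : ∀ χ : S → ℂ, IsIrrCharacter S χ → χ ≠ 1 → ∀ x ∈ U, x ≠ 1 → ‖χ x‖ ≤ A)
    (hnum : (1 / (Nat.card U : ℝ) + ((Nat.card U : ℝ) - 1) * A / (Nat.card U * D)) ^ 2 *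
      ((Nat.card (Subgroup.centralizer ({y} : Set S)) : ℝ) - 1) * ((Nat.card S : ℝ) / Nat.card Z - 1) < 1) :
    ∃ g h : S, g * t * g⁻¹ * (h * y * h⁻¹) ∈ Z := by
  have hU : (1 : ℝ) ≤ Nat.card U := by exact_mod_cast Nat.card_pos
  have hU1 : (0 : ℝ) ≤ (Nat.card U : ℝ) - 1 := by linarith
  refine exists_mul_mem (R := 1 / (Nat.card U : ℝ) + ((Nat.card U : ℝ) - 1) * A / (Nat.card U * D))
    (fun χ hχ h1 => ?_) hne hnum
  refine (norm_le_of_free hn hf hχ (hA χ hχ h1)).trans ?_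
  have h2 := hD χ hχ h1
  have hU0 : (0 : ℝ) < Nat.card U := by linarith
  have h3 : (1 / (Nat.card U : ℝ) + ((Nat.card U : ℝ) - 1) * A / (Nat.card U * D)) * ‖χ 1‖ =
      (‖χ 1‖ + ((Nat.card U : ℝ) - 1) * A * (‖χ 1‖ / D)) / Nat.card U := by
    field_simp
  rw [h3]
  refine div_le_div_of_nonneg_right ?_ hU0.le
  have h4 : 1 ≤ ‖χ 1‖ / D := by rwa [one_le_div hD0]
  have h5 : ((Nat.card U : ℝ) - 1) * A * 1 ≤ ((Nat.card U : ℝ) - 1) * A * (‖χ 1‖ / D) :=
    mul_le_mul_of_nonneg_left h4 (by positivity)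
  linarith

/-- `t` normalises `⟨u⟩` and does not centralise `u`, `u` of prime order -/
theorem free_of_prime {l : ℕ} (hl : l.Prime) {t u : S} (hu : orderOf u = l)
    (htu : ∃ k : ℕ, t * u * t⁻¹ = u ^ k) (htu' : t * u ≠ u * t) :
    (∀ x ∈ Subgroup.zpowers u, t * x * t⁻¹ ∈ Subgroup.zpowers u) ∧
      ∀ x ∈ Subgroup.zpowers u, t * x = x * t → x = 1 := by
  obtain ⟨k, hk⟩ := htu
  constructor
  · rintro _ ⟨i, rfl⟩
    have e : t * u ^ i * t⁻¹ = (t * u * t⁻¹) ^ i := by rw [conj_zpow]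
    show t * u ^ i * t⁻¹ ∈ Subgroup.zpowers u
    rw [e, hk]
    exact Subgroup.zpow_mem _ (Subgroup.pow_mem _ (Subgroup.mem_zpowers u) k) i
  · intro x hx hcomm
    by_contra hx1
    apply htu'
    have h1 : orderOf x = l := by
      have h2 : orderOf x ∣ l := hu ▸ orderOf_dvd_of_mem_zpowers hx
      exact ((Nat.dvd_prime hl).1 h2).resolve_left fun h => hx1 (orderOf_eq_one_iff.1 h)
    have h2 : Subgroup.zpowers x = Subgroup.zpowers u :=
      Subgroup.eq_of_le_of_card_ge (Subgroup.zpowers_le.2 hx) (by rw [Nat.card_zpowers, Nat.card_zpowers, h1, hu])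
    have h3 : u ∈ Subgroup.zpowers x := by rw [h2]; exact Subgroup.mem_zpowers u
    obtain ⟨i, rfl⟩ := h3
    have h4 : Commute t x := hcomm
    exact h4.zpow_right i

/-- **PQR-C1** -/
theorem ratio {l : ℕ} (hl : l.Prime) {t u y : S} (hu : orderOf u = l)
    (htu : ∃ k : ℕ, t * u * t⁻¹ = u ^ k) (htu' : t * u ≠ u * t) {Z : Set S} (hne : Z.Nonempty) {D A : ℝ}
    (hD0 : 0 < D) (hA0 : 0 ≤ A) (hD : ∀ χ : S → ℂ, IsIrrCharacter S χ → χ ≠ 1 → D ≤ ‖χ 1‖)
    (hA : ∀ χ : S → ℂ, IsIrrCharacter S χ → χ ≠ 1 → ∀ i : ℕ, u ^ i ≠ 1 → ‖χ (u ^ i)‖ ≤ A)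
    (hnum : ((Nat.card (Subgroup.centralizer ({y} : Set S)) : ℝ) - 1) * ((Nat.card S : ℝ) / Nat.card Z - 1) *
      (1 / l + (l - 1) * A / (l * D)) ^ 2 < 1) :
    ∃ g h : S, g * t * g⁻¹ * (h * y * h⁻¹) ∈ Z := by
  obtain ⟨hn, hf⟩ := free_of_prime hl hu htu htu'
  have hU : Nat.card (Subgroup.zpowers u) = l := by rw [Nat.card_zpowers, hu]
  refine ratio_sub (U := Subgroup.zpowers u) hn hf hne hD0 hA0 hD (fun χ hχ h1 x hx hx1 => ?_) ?_
  · obtain ⟨i, rfl⟩ := mem_powers_iff_mem_zpowers.2 hx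
    exact hA χ hχ h1 i hx1
  · rw [hU]
    calc _ = ((Nat.card (Subgroup.centralizer ({y} : Set S)) : ℝ) - 1) * ((Nat.card S : ℝ) / Nat.card Z - 1) *
      (1 / (l : ℝ) + ((l : ℝ) - 1) * A / (l * D)) ^ 2 := by ring
      _ < 1 := hnum

/-- the nontrivial powers of an element of prime order have the same centraliser -/
theorem centralizer_pow_eq {l : ℕ} (hl : l.Prime) {u : S} (hu : orderOf u = l) {i : ℕ} (hi : u ^ i ≠ 1) :
    Subgroup.centralizer ({u ^ i} : Set S) = Subgroup.centralizer ({u} : Set S) := by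
  have h1 : orderOf (u ^ i) = l := by
    have h2 : orderOf (u ^ i) ∣ l := hu ▸ orderOf_pow_dvd i
    exact ((Nat.dvd_prime hl).1 h2).resolve_left fun h => hi (orderOf_eq_one_iff.1 h)
  have h2 : Subgroup.zpowers (u ^ i) = Subgroup.zpowers u :=
    Subgroup.eq_of_le_of_card_ge (Subgroup.zpowers_le.2 (Subgroup.pow_mem _ (Subgroup.mem_zpowers u) i))
      (by rw [Nat.card_zpowers, Nat.card_zpowers, h1, hu])
  have key : ∀ v : S, Subgroup.centralizer ({v} : Set S) = Subgroup.centralizer (Subgroup.zpowers v : Set S) := by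
    intro v
    rw [Subgroup.zpowers_eq_closure, Subgroup.centralizer_closure]
  rw [key, key, h2]

/-- **PQR-C1 with `A = √|C(u)|`** (a real number `a` with `|C(u)| ≤ a²`) -/
theorem ratio_cent {l : ℕ} (hl : l.Prime) {t u y : S} (hu : orderOf u = l)
    (htu : ∃ k : ℕ, t * u * t⁻¹ = u ^ k) (htu' : t * u ≠ u * t) {Z : Set S} (hne : Z.Nonempty) {D A : ℝ}
    (hD0 : 0 < D) (hA0 : 0 ≤ A) (hD : ∀ χ : S → ℂ, IsIrrCharacter S χ → χ ≠ 1 → D ≤ ‖χ 1‖)
    (hA : (Nat.card (Subgroup.centralizer ({u} : Set S)) : ℝ) ≤ A ^ 2 + 1)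
    (hnum : ((Nat.card (Subgroup.centralizer ({y} : Set S)) : ℝ) - 1) * ((Nat.card S : ℝ) / Nat.card Z - 1) *
      (1 / l + (l - 1) * A / (l * D)) ^ 2 < 1) :
    ∃ g h : S, g * t * g⁻¹ * (h * y * h⁻¹) ∈ Z := by
  refine ratio hl hu htu htu' hne hD0 hA0 hD (fun χ hχ h1 i hi => ?_) hnum
  have h2 := norm_sq_add_one_le hχ h1 (u ^ i)
  rw [centralizer_pow_eq hl hu hi] at h2
  exact abs_le_of_sq_le_sq' (by linarith) hA0 |>.2

/-- an element of the normaliser of `⟨u⟩` outside the centraliser -/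
theorem exists_normalizing {u : S} {q : ℕ} (hq : q.Prime)
    (hd : q ∣ Nat.card (Subgroup.normalizer (Subgroup.zpowers u : Set S)))
    (hc : ¬ q ∣ Nat.card (Subgroup.centralizer ({u} : Set S))) :
    ∃ t : S, orderOf t = q ∧ (∃ k : ℕ, t * u * t⁻¹ = u ^ k) ∧ t * u ≠ u * t := by
  have : Fact q.Prime := ⟨hq⟩
  obtain ⟨⟨t, ht⟩, hto⟩ := exists_prime_orderOf_dvd_card' q hd
  rw [Subgroup.orderOf_mk] at hto
  refine ⟨t, hto, ?_, ?_⟩
  · have h1 := (Subgroup.mem_normalizer_iff.1 ht u).1 (Subgroup.mem_zpowers u)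
    obtain ⟨k, hk⟩ := mem_powers_iff_mem_zpowers.2 h1
    exact ⟨k, hk.symm⟩
  · intro hcomm
    apply hc
    have h1 : t ∈ Subgroup.centralizer ({u} : Set S) := by
      rw [Subgroup.mem_centralizer_singleton_iff]
      exact hcomm
    rw [← hto]
    have := orderOf_dvd_natCard (⟨t, h1⟩ : Subgroup.centralizer ({u} : Set S))
    rwa [Subgroup.orderOf_mk] at this

/-! ### Counting the elements of prime order -/

/-- the number of elements of order `b` if `b` divides `|S|` exactly once -/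
theorem card_prime {b : ℕ} (hb : b.Prime) (hb2 : ¬ b ^ 2 ∣ Nat.card S) {z : S} (hz : orderOf z = b) :
    Nat.card {x : S // orderOf x = b} * Nat.card (Subgroup.normalizer (Subgroup.zpowers z : Set S)) =
      Nat.card S * (b - 1) := by
  have : Fact b.Prime := ⟨hb⟩
  have h1 : b ∣ Nat.card S := hz ▸ orderOf_dvd_natCard z
  have hf : (Nat.card S).factorization b = 1 := by
    have h0 : Nat.card S ≠ 0 := Nat.card_pos.ne'
    have h3 : 1 ≤ (Nat.card S).factorization b := (hb.pow_dvd_iff_le_factorization h0).1 (by simpa using h1)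
    have h4 : ¬ 2 ≤ (Nat.card S).factorization b := fun h => hb2 ((hb.pow_dvd_iff_le_factorization h0).2 h)
    omega
  have hP : ∀ P : Sylow b S, Nat.card (P : Subgroup S) = b := by
    intro P
    rw [P.card_eq_multiplicity, hf, pow_one]
  rw [SmallSimple.Simple168.card_orderOf_eq_prime b hP]
  have h2 : IsPGroup b (Subgroup.zpowers z) := by
    apply IsPGroup.of_card (n := 1)
    rw [Nat.card_zpowers, hz, pow_one]
  obtain ⟨P, hPz⟩ := h2.exists_le_sylow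
  have h3 : (P : Subgroup S) = Subgroup.zpowers z :=
    (Subgroup.eq_of_le_of_card_ge hPz (by rw [Nat.card_zpowers, hz]; exact (hP P).le)).symm
  have h4 : (Subgroup.zpowers z : Set S) = (P : Set S) := by rw [← h3]; rfl
  rw [Sylow.card_eq_index_normalizer P, h4, ← Subgroup.card_mul_index (Subgroup.normalizer (P : Set S))]
  ring

/-- the elements whose order lies in `B` -/
theorem card_primes (B : Finset ℕ) :
    (Nat.card {x : S | orderOf x ∈ B} : ℝ) = ∑ b ∈ B, (Nat.card {x : S // orderOf x = b} : ℝ) := by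
  classical
  have := Fintype.ofFinite S
  have h1 : Nat.card {x : S | orderOf x ∈ B} = (Finset.univ.filter fun x : S => orderOf x ∈ B).card := by
    rw [← Fintype.card_subtype, Nat.card_eq_fintype_card]
    rfl
  have h2 : ∀ b, Nat.card {x : S // orderOf x = b} = (Finset.univ.filter fun x : S => orderOf x = b).card := by
    intro b
    rw [← Fintype.card_subtype, Nat.card_eq_fintype_card]
  have h3 : (Finset.univ.filter fun x : S => orderOf x ∈ B) =
      B.biUnion fun b => Finset.univ.filter fun x : S => orderOf x = b := by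
    ext x
    simp
  rw [h1, h3, Finset.card_biUnion]
  · push_cast
    exact Finset.sum_congr rfl fun b _ => by rw [h2]
  · intro a _ b _ hab
    rw [Function.onFun, Finset.disjoint_left]
    intro x hx hx'
    rw [Finset.mem_filter] at hx hx'
    exact hab (hx.2.symm.trans hx'.2)

/-- the proportion of the elements of order `b` -/
theorem card_prime_div {b n : ℕ} (hb : b.Prime) (hb2 : ¬ b ^ 2 ∣ Nat.card S) {z : S} (hz : orderOf z = b)
    (hn : Nat.card (Subgroup.normalizer (Subgroup.zpowers z : Set S)) = n) :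
    (Nat.card {x : S // orderOf x = b} : ℝ) = (Nat.card S : ℝ) * (((b : ℝ) - 1) / n) := by
  have h1 := card_prime hb hb2 hz
  rw [hn] at h1
  have hn0 : (n : ℝ) ≠ 0 := by
    rw [← hn]
    exact_mod_cast Nat.card_pos.ne'
  have h2 : (Nat.card {x : S // orderOf x = b} : ℝ) * n = Nat.card S * ((b : ℝ) - 1) := by
    have h3 : ((Nat.card {x : S // orderOf x = b} * n : ℕ) : ℝ) = ((Nat.card S * (b - 1) : ℕ) : ℝ) := by rw [h1]
    push_cast [Nat.cast_sub hb.one_lt.le] at h3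
    exact h3
  field_simp
  linarith

end Cfsg.Agent.H588.Ratio
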